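import Groth.Agent.Brauer.K441.BrEq
import Groth.Prelude.Def_GSzCSA
import Mathlib.RingTheory.PiTensorProduct

/-!
# Tensor powers of algebras

`CSAGal.tpow k A e` is the `e`-fold tensor power.  We provide `tpow 0 = k`, `tpow 1 = A`,
`tpow (e + f) = tpow e ⊗ tpow f`, base change, central simplicity, and compatibility with Brauer
equivalence.
-/

set_option autoImplicit false
universe u v w x y

open scoped TensorProduct
open Module CSAGal K441.Br

namespace K441.TPow

variable (k : Type u) [Field k] (A : Type v) [Ring A] [Algebra k A]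
  (B : Type w) [Ring B] [Algebra k B]

/-- The tensor power over the empty index is the base field. -/
noncomputable def tpowZero : tpow k A 0 ≃ₐ[k] k :=
  AlgEquiv.ofLinearEquiv (PiTensorProduct.isEmptyEquiv (Fin 0))
    (by rw [PiTensorProduct.one_def, PiTensorProduct.isEmptyEquiv_apply_tprod])
    (by
      intro x y
      induction x using PiTensorProduct.induction_on with
      | add x x' hx hx' => rw [add_mul, map_add, hx, hx', map_add, add_mul]
      | smul_tprod r a =>
        induction y using PiTensorProduct.induction_on with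
        | add y y' hy hy' => rw [mul_add, map_add, hy, hy', map_add, mul_add]
        | smul_tprod s b =>
          rw [PiTensorProduct.smul_tprod_mul_smul_tprod]
          simp)

/-- The first tensor power. -/
noncomputable def tpowOne : tpow k A 1 ≃ₐ[k] A :=
  AlgEquiv.ofLinearEquiv (PiTensorProduct.subsingletonEquiv (0 : Fin 1))
    (by rw [PiTensorProduct.one_def, PiTensorProduct.subsingletonEquiv_apply_tprod]; rfl)
    (by
      intro x y
      induction x using PiTensorProduct.induction_on with
      | add x x' hx hx' => rw [add_mul, map_add, hx, hx', map_add, add_mul]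
      | smul_tprod r a =>
        induction y using PiTensorProduct.induction_on with
        | add y y' hy hy' => rw [mul_add, map_add, hy, hy', map_add, mul_add]
        | smul_tprod s b =>
          rw [PiTensorProduct.smul_tprod_mul_smul_tprod]
          simp only [map_smul, PiTensorProduct.subsingletonEquiv_apply_tprod, Pi.mul_apply,
            smul_mul_smul_comm])

/-- Multiplicativity of a linear map out of a tensor product of two tensor powers. -/
theorem map_mul_of_tprod {ι ι' : Type} {C : Type x} [Ring C] [Algebra k C]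
    (f : ((⨂[k] _ : ι, A) ⊗[k] (⨂[k] _ : ι', A)) →ₗ[k] C)
    (h : ∀ (a b : ι → A) (a' b' : ι' → A),
      f (PiTensorProduct.tprod k (a * b) ⊗ₜ PiTensorProduct.tprod k (a' * b')) =
      f (PiTensorProduct.tprod k a ⊗ₜ PiTensorProduct.tprod k a') *
      f (PiTensorProduct.tprod k b ⊗ₜ PiTensorProduct.tprod k b'))
    (x y : (⨂[k] _ : ι, A) ⊗[k] (⨂[k] _ : ι', A)) : f (x * y) = f x * f y := by
  induction x using TensorProduct.induction_on with
  | zero => simp
  | add x x' hx hx' => rw [add_mul, map_add, hx, hx', map_add, add_mul]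
  | tmul x x' =>
    induction y using TensorProduct.induction_on with
    | zero => simp
    | add y y' hy hy' => rw [mul_add, map_add, hy, hy', map_add, mul_add]
    | tmul y y' =>
      rw [Algebra.TensorProduct.tmul_mul_tmul]
      induction x using PiTensorProduct.induction_on with
      | add x₁ x₂ h₁ h₂ => simp only [add_mul, TensorProduct.add_tmul, map_add, h₁, h₂]
      | smul_tprod r a =>
      induction y using PiTensorProduct.induction_on with
      | add x₁ x₂ h₁ h₂ => simp only [mul_add, TensorProduct.add_tmul, map_add, h₁, h₂]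
      | smul_tprod s b =>
      induction x' using PiTensorProduct.induction_on with
      | add x₁ x₂ h₁ h₂ => simp only [add_mul, TensorProduct.tmul_add, map_add, h₁, h₂]
      | smul_tprod r' a' =>
      induction y' using PiTensorProduct.induction_on with
      | add x₁ x₂ h₁ h₂ => simp only [mul_add, TensorProduct.tmul_add, map_add, h₁, h₂]
      | smul_tprod s' b' =>
      rw [PiTensorProduct.smul_tprod_mul_smul_tprod, PiTensorProduct.smul_tprod_mul_smul_tprod]
      simp only [TensorProduct.smul_tmul_smul, map_smul, h, smul_mul_smul_comm]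
      congr 1
      ring

/-- `tpow (e + f) = tpow e ⊗ tpow f`. -/
noncomputable def tpowAdd (e f : ℕ) : tpow k A e ⊗[k] tpow k A f ≃ₐ[k] tpow k A (e + f) :=
  AlgEquiv.ofLinearEquiv
    ((PiTensorProduct.tmulEquiv k A (ι := Fin e) (ι₂ := Fin f)).trans
      (PiTensorProduct.reindex k (fun _ => A) finSumFinEquiv))
    (by
      rw [Algebra.TensorProduct.one_def, PiTensorProduct.one_def, PiTensorProduct.one_def]
      simp only [LinearEquiv.trans_apply, PiTensorProduct.tmulEquiv_apply,
        PiTensorProduct.reindex_tprod]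
      rw [PiTensorProduct.one_def]
      congr 1
      funext i
      induction i using Fin.addCases <;> simp)
    (by
      intro x y
      refine map_mul_of_tprod k A (((PiTensorProduct.tmulEquiv k A).trans
        (PiTensorProduct.reindex k (fun _ => A) finSumFinEquiv))).toLinearMap ?_ x y
      intro a b a' b'
      simp only [LinearEquiv.coe_coe, LinearEquiv.trans_apply, PiTensorProduct.tmulEquiv_apply,
        PiTensorProduct.reindex_tprod, PiTensorProduct.tprod_mul_tprod]
      congr 1
      funext i
      induction i using Fin.addCases <;> simp)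

theorem tpowAdd_tprod (e f : ℕ) (a : Fin e → A) (b : Fin f → A) :
    tpowAdd k A e f (PiTensorProduct.tprod k a ⊗ₜ PiTensorProduct.tprod k b) =
      PiTensorProduct.tprod k (Fin.append a b) := by
  simp only [tpowAdd, AlgEquiv.ofLinearEquiv_apply, LinearEquiv.trans_apply,
    PiTensorProduct.tmulEquiv_apply, PiTensorProduct.reindex_tprod]
  congr 1
  funext i
  induction i using Fin.addCases <;> simp

/-- `tpow (e + 1) = tpow e ⊗ A`. -/
noncomputable def tpowSucc (e : ℕ) : tpow k A e ⊗[k] A ≃ₐ[k] tpow k A (e + 1) :=
  (Algebra.TensorProduct.congr AlgEquiv.refl (tpowOne k A).symm).trans (tpowAdd k A e 1)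

/-- `tpow` is functorial for isomorphisms. -/
noncomputable def tpowCongr {A : Type v} [Ring A] [Algebra k A] {B : Type w} [Ring B]
    [Algebra k B] (g : A ≃ₐ[k] B) (e : ℕ) : tpow k A e ≃ₐ[k] tpow k B e :=
  AlgEquiv.ofLinearEquiv (PiTensorProduct.congr fun _ : Fin e => g.toLinearEquiv)
    (by
      rw [PiTensorProduct.one_def, PiTensorProduct.congr_tprod, PiTensorProduct.one_def]
      congr 1
      funext i
      simp)
    (by
      intro x y
      induction x using PiTensorProduct.induction_on with
      | add x x' hx hx' => rw [add_mul, map_add, hx, hx', map_add, add_mul]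
      | smul_tprod r a =>
        induction y using PiTensorProduct.induction_on with
        | add y y' hy hy' => rw [mul_add, map_add, hy, hy', map_add, mul_add]
        | smul_tprod s b =>
          rw [PiTensorProduct.smul_tprod_mul_smul_tprod]
          simp only [map_smul, PiTensorProduct.congr_tprod,
            PiTensorProduct.smul_tprod_mul_smul_tprod]
          congr 2
          funext i
          simp)

variable {k A B}

theorem brEq_tpow_zero : BrEq k (tpow k A 0) k := BrEq.of_algEquiv (tpowZero k A)

theorem brEq_tpow_one : BrEq k (tpow k A 1) A := BrEq.of_algEquiv (tpowOne k A)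

theorem brEq_tpow_add (e f : ℕ) : BrEq k (tpow k A (e + f)) (tpow k A e ⊗[k] tpow k A f) :=
  BrEq.of_algEquiv (tpowAdd k A e f).symm

theorem brEq_tpow_succ (e : ℕ) : BrEq k (tpow k A (e + 1)) (tpow k A e ⊗[k] A) :=
  BrEq.of_algEquiv (tpowSucc k A e).symm

theorem isCSA_tpow (h : IsCSA k A) (e : ℕ) : IsCSA k (tpow k A e) := by
  induction e with
  | zero => exact (IsCSA.self k).congr (tpowZero k A).symm
  | succ e ih => exact (ih.tensor h).congr (tpowSucc k A e)

theorem finrank_tpow (h : IsCSA k A) (e : ℕ) : finrank k (tpow k A e) = finrank k A ^ e := by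
  have := h.3
  induction e with
  | zero => rw [(tpowZero k A).toLinearEquiv.finrank_eq, pow_zero, Module.finrank_self]
  | succ e ih =>
    have := (isCSA_tpow h e).3
    rw [← (tpowSucc k A e).toLinearEquiv.finrank_eq, Module.finrank_tensorProduct, ih, pow_succ]

theorem brEq_tpow (h : BrEq k A B) (e : ℕ) : BrEq k (tpow k A e) (tpow k B e) := by
  induction e with
  | zero => exact brEq_tpow_zero.trans brEq_tpow_zero.symm
  | succ e ih => exact (brEq_tpow_succ e).trans ((ih.tensor h).trans (brEq_tpow_succ e).symm)

theorem brEq_tpow_base (e : ℕ) : BrEq k (tpow k k e) k := by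
  induction e with
  | zero => exact brEq_tpow_zero
  | succ e ih => exact (brEq_tpow_succ e).trans (BrEq.tensor_base.trans ih)

/-- A tensor power of a tensor product. -/
theorem brEq_tpow_tensor (e : ℕ) :
    BrEq k (tpow k (A ⊗[k] B) e) (tpow k A e ⊗[k] tpow k B e) := by
  induction e with
  | zero =>
    exact brEq_tpow_zero.trans ((brEq_tpow_zero (A := A)).symm.trans
      (BrEq.tensor_split (brEq_tpow_zero (A := B))).symm)
  | succ e ih =>
    refine (brEq_tpow_succ e).trans ((ih.tensor_right).trans ?_)
    refine (BrEq.of_algEquiv (B := (tpow k A e ⊗[k] A) ⊗[k] (tpow k B e ⊗[k] B))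
      (Algebra.TensorProduct.tensorTensorTensorComm k k k k
      (tpow k A e) (tpow k B e) A B)).trans ?_
    exact (brEq_tpow_succ e).symm.tensor (brEq_tpow_succ e).symm

theorem brEq_tpow_mul (e f : ℕ) : BrEq k (tpow k A (e * f)) (tpow k (tpow k A e) f) := by
  induction f with
  | zero => exact brEq_tpow_zero.trans brEq_tpow_zero.symm
  | succ f ih =>
    rw [Nat.mul_succ]
    exact (brEq_tpow_add _ _).trans ((ih.tensor_right).trans (brEq_tpow_succ f).symm)

theorem brEq_tpow_mul_of_split {e : ℕ} (h : BrEq k (tpow k A e) k) (f : ℕ) :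
    BrEq k (tpow k A (e * f)) k :=
  (brEq_tpow_mul e f).trans ((brEq_tpow h f).trans (brEq_tpow_base f))

/-- Base change of tensor powers, up to Brauer equivalence. -/
theorem brEq_bc_tpow (K : Type y) [Field K] [Algebra k K] (e : ℕ) :
    BrEq K (K ⊗[k] tpow k A e) (tpow K (K ⊗[k] A) e) := by
  induction e with
  | zero =>
    exact ((brEq_tpow_zero (A := A)).baseChange K).trans
      ((BrEq.of_algEquiv (Algebra.TensorProduct.rid k K K)).trans brEq_tpow_zero.symm)
  | succ e ih =>
    exact ((brEq_tpow_succ e).baseChange K).trans <|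
      (BrEq.of_algEquiv (bcTensor k (tpow k A e) A K)).trans <|
      (ih.tensor_right).trans (brEq_tpow_succ e).symm

theorem splits_tpow (h : IsCSA k A) (K : Type y) [Field K] [Algebra k K]
    (hK : Curves.Splits k A K) (e : ℕ) : Curves.Splits k (tpow k A e) K := by
  rw [splits_iff_brEq_bc (isCSA_tpow h e) K]
  exact (brEq_bc_tpow K e).trans ((brEq_tpow (BrEq.of_splits_bc K hK) e).trans (brEq_tpow_base e))

/-! ### The period -/

/-- The `e`-th tensor power is split. -/
theorem splits_tpow_iff (h : IsCSA k A) (e : ℕ) :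
    Curves.Splits k (tpow k A e) k ↔ BrEq k (tpow k A e) k :=
  splits_iff_brEq (isCSA_tpow h e)

theorem brEq_tpow_sub {e f : ℕ} (he : BrEq k (tpow k A e) k)
    (hf : BrEq k (tpow k A (e + f)) k) : BrEq k (tpow k A f) k :=
  (BrEq.split_tensor he).symm.trans ((brEq_tpow_add e f).symm.trans hf)

theorem brEq_tpow_mod {e f : ℕ} (he : BrEq k (tpow k A e) k)
    (hf : BrEq k (tpow k A f) k) : BrEq k (tpow k A (f % e)) k := by
  refine brEq_tpow_sub (e := e * (f / e)) (brEq_tpow_mul_of_split he _) ?_
  rw [Nat.div_add_mod]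
  exact hf

/-- `IsPeriod` in terms of Brauer equivalence. -/
theorem isPeriod_iff (h : IsCSA k A) (e : ℕ) : IsPeriod k A e ↔
    (0 < e ∧ BrEq k (tpow k A e) k ∧ ∀ e' : ℕ, 0 < e' → e' < e → ¬ BrEq k (tpow k A e') k) := by
  unfold IsPeriod
  simp only [splits_tpow_iff h]

theorem isPeriod_dvd (h : IsCSA k A) {e : ℕ} (he : IsPeriod k A e) (f : ℕ) :
    BrEq k (tpow k A f) k ↔ e ∣ f := by
  rw [isPeriod_iff h] at he
  obtain ⟨h0, h1, h2⟩ := he
  constructor
  · intro hf
    have h3 := brEq_tpow_mod h1 hf
    by_contra hne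
    exact h2 (f % e) (Nat.pos_of_ne_zero fun h4 => hne (Nat.dvd_of_mod_eq_zero h4))
      (Nat.mod_lt _ h0) h3
  · rintro ⟨c, rfl⟩
    exact brEq_tpow_mul_of_split h1 c

theorem isPeriod_iff_dvd (h : IsCSA k A) (e : ℕ) : IsPeriod k A e ↔
    (0 < e ∧ ∀ f : ℕ, BrEq k (tpow k A f) k ↔ e ∣ f) := by
  refine ⟨fun he => ⟨he.1, isPeriod_dvd h he⟩, fun ⟨h0, h1⟩ => ?_⟩
  rw [isPeriod_iff h]
  refine ⟨h0, (h1 e).mpr dvd_rfl, fun e' h2 h3 h4 => ?_⟩
  exact absurd (Nat.le_of_dvd h2 ((h1 e').mp h4)) (by omega)

theorem isPeriod_congr (hA : IsCSA k A) (h : BrEq k A B) (e : ℕ) :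
    IsPeriod k A e ↔ IsPeriod k B e := by
  rw [isPeriod_iff_dvd hA, isPeriod_iff_dvd (hA.of_brEq h)]
  refine and_congr_right fun _ => forall_congr' fun f => ?_
  have h1 := brEq_tpow h f
  exact iff_congr ⟨fun h' => h1.symm.trans h', fun h' => h1.trans h'⟩ Iff.rfl

end K441.TPow
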