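import Mathlib.RingTheory.MatrixAlgebra
import Mathlib.Data.Matrix.Composition
import Mathlib.RingTheory.TensorProduct.Maps
import Mathlib.Algebra.Central.Matrix
import Mathlib.Algebra.Central.TensorProduct
import Mathlib.RingTheory.SimpleRing.Matrix
import Mathlib.RingTheory.SimpleRing.Congr
import Mathlib.LinearAlgebra.Matrix.ToLin
import Mathlib.LinearAlgebra.Dimension.Constructions
import Groth.Agent.CurvesA.SepSplit2
import Groth.Agent.CurvesA.SplitEmbed
import Groth.Agent.CurvesA.CSABasic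
import Groth.Agent.CurvesA.MatrixDiv

/-!
# Brauer equivalence of algebras over a field, across universes

`BrEq k A B`: matrix algebras of positive size over `A` and `B` are isomorphic over `k`.
`IsCSA k A`: `A` is finite-dimensional central simple.
-/

set_option autoImplicit false
universe u v w x y

open scoped TensorProduct
open Module

namespace K441.Br

/-- Brauer equivalence (across universes). -/
def BrEq (k : Type u) [Field k] (A : Type v) [Ring A] [Algebra k A] (B : Type w) [Ring B]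
    [Algebra k B] : Prop :=
  ∃ n m : ℕ, n ≠ 0 ∧ m ≠ 0 ∧
    Nonempty (Matrix (Fin n) (Fin n) A ≃ₐ[k] Matrix (Fin m) (Fin m) B)

/-- Finite-dimensional central simple algebra, as a `Prop`. -/
structure IsCSA (k : Type u) [Field k] (A : Type v) [Ring A] [Algebra k A] : Prop where
  central : Algebra.IsCentral k A
  simple : IsSimpleRing A
  finite : FiniteDimensional k A

section general

variable (k : Type u) [Field k]

/-- Matrices of matrices are matrices. -/
noncomputable def matMat (A : Type v) [Ring A] [Algebra k A] (n m : ℕ) :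
    Matrix (Fin n) (Fin n) (Matrix (Fin m) (Fin m) A) ≃ₐ[k]
      Matrix (Fin (n * m)) (Fin (n * m)) A :=
  (Matrix.compAlgEquiv (Fin n) (Fin m) A k).trans (Matrix.reindexAlgEquiv k A finProdFinEquiv)

/-- `M_1(A) = A`. -/
noncomputable def matOne (A : Type v) [Ring A] [Algebra k A] :
    A ≃ₐ[k] Matrix (Fin 1) (Fin 1) A := AlgEquiv.ofBijective
    (Matrix.scalarAlgHom (Fin 1) k) ⟨by
      intro a b hab
      have := congrFun (congrFun hab 0) 0
      simpa using this, by
      intro M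
      refine ⟨M 0 0, ?_⟩
      ext i j
      simp [Subsingleton.elim i 0, Subsingleton.elim j 0]⟩

/-- `A ⊗ M_n(B) = M_n(A ⊗ B)`. -/
noncomputable def tensorMat (A : Type v) [Ring A] [Algebra k A] (B : Type w) [Ring B]
    [Algebra k B] (n : ℕ) :
    A ⊗[k] Matrix (Fin n) (Fin n) B ≃ₐ[k] Matrix (Fin n) (Fin n) (A ⊗[k] B) :=
  (Algebra.TensorProduct.congr AlgEquiv.refl (matrixEquivTensor (Fin n) k B)).trans <|
    (Algebra.TensorProduct.assoc k k k A B (Matrix (Fin n) (Fin n) k)).symm.trans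
      (matrixEquivTensor (Fin n) k (A ⊗[k] B)).symm

variable {k}
variable {A : Type v} [Ring A] [Algebra k A] {B : Type w} [Ring B] [Algebra k B]
  {C : Type x} [Ring C] [Algebra k C] {D : Type y} [Ring D] [Algebra k D]

theorem BrEq.of_algEquiv (e : A ≃ₐ[k] B) : BrEq k A B :=
  ⟨1, 1, one_ne_zero, one_ne_zero, ⟨e.mapMatrix⟩⟩

theorem BrEq.refl : BrEq k A A := BrEq.of_algEquiv AlgEquiv.refl

theorem BrEq.symm (h : BrEq k A B) : BrEq k B A := by
  obtain ⟨n, m, hn, hm, ⟨e⟩⟩ := h
  exact ⟨m, n, hm, hn, ⟨e.symm⟩⟩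

theorem BrEq.trans (h : BrEq k A B) (h' : BrEq k B C) : BrEq k A C := by
  obtain ⟨n, m, hn, hm, ⟨e⟩⟩ := h
  obtain ⟨n', m', hn', hm', ⟨e'⟩⟩ := h'
  refine ⟨n' * n, m * m', mul_ne_zero hn' hn, mul_ne_zero hm hm', ⟨?_⟩⟩
  exact (matMat k A n' n).symm.trans <| e.mapMatrix.trans <| (matMat k B n' m).trans <|
    (Matrix.reindexAlgEquiv k B (finCongr (Nat.mul_comm n' m))).trans <|
    (matMat k B m n').symm.trans <| e'.mapMatrix.trans (matMat k C m m')

theorem brEq_comm : BrEq k A B ↔ BrEq k B A := ⟨BrEq.symm, BrEq.symm⟩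

theorem BrEq.matrix_right (n : ℕ) (hn : n ≠ 0) : BrEq k A (Matrix (Fin n) (Fin n) A) :=
  ⟨n, 1, hn, one_ne_zero, ⟨matOne k (Matrix (Fin n) (Fin n) A)⟩⟩

theorem BrEq.matrix_left (n : ℕ) (hn : n ≠ 0) : BrEq k (Matrix (Fin n) (Fin n) A) A :=
  (BrEq.matrix_right n hn).symm

theorem BrEq.of_matrix {n : ℕ} (hn : n ≠ 0) (e : A ≃ₐ[k] Matrix (Fin n) (Fin n) B) :
    BrEq k A B := (BrEq.of_algEquiv e).trans (BrEq.matrix_left n hn)

theorem BrEq.tensor_left (h : BrEq k A B) : BrEq k (C ⊗[k] A) (C ⊗[k] B) := by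
  obtain ⟨n, m, hn, hm, ⟨e⟩⟩ := h
  exact (BrEq.matrix_right n hn).trans <| (BrEq.of_algEquiv (tensorMat k C A n).symm).trans <|
    (BrEq.of_algEquiv (Algebra.TensorProduct.congr AlgEquiv.refl e)).trans <|
    (BrEq.of_algEquiv (tensorMat k C B m)).trans (BrEq.matrix_left m hm)

theorem BrEq.tensor_comm : BrEq k (A ⊗[k] B) (B ⊗[k] A) :=
  BrEq.of_algEquiv (Algebra.TensorProduct.comm k A B)

theorem BrEq.tensor_assoc : BrEq k ((A ⊗[k] B) ⊗[k] C) (A ⊗[k] (B ⊗[k] C)) :=
  BrEq.of_algEquiv (Algebra.TensorProduct.assoc k k k A B C)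

theorem BrEq.tensor_right (h : BrEq k A B) : BrEq k (A ⊗[k] C) (B ⊗[k] C) :=
  BrEq.tensor_comm.trans <| h.tensor_left.trans BrEq.tensor_comm

theorem BrEq.tensor (h : BrEq k A B) (h' : BrEq k C D) : BrEq k (A ⊗[k] C) (B ⊗[k] D) :=
  h.tensor_right.trans h'.tensor_left

theorem BrEq.tensor_base : BrEq k (A ⊗[k] k) A :=
  BrEq.of_algEquiv (Algebra.TensorProduct.rid k k A)

theorem BrEq.base_tensor : BrEq k (k ⊗[k] A) A :=
  BrEq.of_algEquiv (Algebra.TensorProduct.lid k A)

/-- `A ⊗_k k` with `k` replaced by something split. -/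
theorem BrEq.tensor_split (h : BrEq k B k) : BrEq k (A ⊗[k] B) A :=
  h.tensor_left.trans BrEq.tensor_base

theorem BrEq.split_tensor (h : BrEq k B k) : BrEq k (B ⊗[k] A) A :=
  BrEq.tensor_comm.trans (BrEq.tensor_split h)

theorem BrEq.op (h : BrEq k A B) : BrEq k Aᵐᵒᵖ Bᵐᵒᵖ := by
  obtain ⟨n, m, hn, hm, ⟨e⟩⟩ := h
  exact ⟨n, m, hn, hm, ⟨AlgEquiv.mopMatrix.trans ((AlgEquiv.op e).trans AlgEquiv.mopMatrix.symm)⟩⟩

/-- `Splits k A k` is Brauer equivalence to `k`, one direction. -/
theorem BrEq.of_splits (h : Curves.Splits k A k) : BrEq k A k := by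
  obtain ⟨n, hn, ⟨e⟩⟩ := h
  exact BrEq.of_matrix hn ((Algebra.TensorProduct.lid k A).symm.trans e)

theorem splits_congr (K : Type y) [Field K] [Algebra k K] (e : A ≃ₐ[k] B)
    (h : Curves.Splits k A K) : Curves.Splits k B K := by
  obtain ⟨n, hn, ⟨f⟩⟩ := h
  exact ⟨n, hn, ⟨(Algebra.TensorProduct.congr AlgEquiv.refl e.symm).trans f⟩⟩

section baseChange

variable (k) (K : Type y) [Field K] [Algebra k K] (A B)

/-- `K ⊗ (A ⊗ B) = (K ⊗ A) ⊗_K (K ⊗ B)`. -/
noncomputable def bcTensor : K ⊗[k] (A ⊗[k] B) ≃ₐ[K] (K ⊗[k] A) ⊗[K] (K ⊗[k] B) :=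
  AlgEquiv.ofLinearEquiv (TensorProduct.AlgebraTensorModule.distribBaseChange k K A B)
    (by rw [Algebra.TensorProduct.one_def, Algebra.TensorProduct.one_def,
          TensorProduct.AlgebraTensorModule.distribBaseChange_tmul]; rfl)
    (by
      intro x y
      induction x using TensorProduct.induction_on with
      | zero => simp
      | add x x' hx hx' => rw [add_mul, map_add, hx, hx', map_add, add_mul]
      | tmul a t =>
        induction y using TensorProduct.induction_on with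
        | zero => simp
        | add y y' hy hy' => rw [mul_add, map_add, hy, hy', map_add, mul_add]
        | tmul b s =>
          induction t using TensorProduct.induction_on with
          | zero => simp
          | add t t' ht ht' =>
            simp only [Algebra.TensorProduct.tmul_mul_tmul, TensorProduct.tmul_add, map_add,
              add_mul] at ht ht' ⊢
            rw [ht, ht']
          | tmul t t' =>
            induction s using TensorProduct.induction_on with
            | zero => simp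
            | add s s' hs hs' =>
              simp only [Algebra.TensorProduct.tmul_mul_tmul, TensorProduct.tmul_add, map_add,
                mul_add] at hs hs' ⊢
              rw [hs, hs']
            | tmul s s' =>
              simp only [Algebra.TensorProduct.tmul_mul_tmul,
                TensorProduct.AlgebraTensorModule.distribBaseChange_tmul, mul_one])

theorem bcTensor_tmul (c : K) (a : A) (b : B) :
    bcTensor k A B K (c ⊗ₜ (a ⊗ₜ b)) = (c ⊗ₜ a) ⊗ₜ (1 ⊗ₜ b) := rfl

/-- `K ⊗ M_n(A) = M_n(K ⊗ A)`, over `K`. -/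
noncomputable def bcMat (n : ℕ) :
    K ⊗[k] Matrix (Fin n) (Fin n) A ≃ₐ[K] Matrix (Fin n) (Fin n) (K ⊗[k] A) :=
  Groth.Agent.CurvesA.Splitting.tensorMatrix k K A n

variable {k A B}

theorem BrEq.baseChange (h : BrEq k A B) : BrEq K (K ⊗[k] A) (K ⊗[k] B) := by
  obtain ⟨n, m, hn, hm, ⟨e⟩⟩ := h
  exact ⟨n, m, hn, hm, ⟨(bcMat k A K n).symm.trans <|
    (Algebra.TensorProduct.congr (AlgEquiv.refl : K ≃ₐ[K] K) e).trans (bcMat k B K m)⟩⟩

theorem BrEq.of_splits_bc (h : Curves.Splits k A K) : BrEq K (K ⊗[k] A) K := by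
  obtain ⟨n, hn, ⟨e⟩⟩ := h
  exact BrEq.of_matrix hn e

theorem splits_tensor (hA : Curves.Splits k A K) (hB : Curves.Splits k B K) :
    Curves.Splits k (A ⊗[k] B) K := by
  obtain ⟨n, hn, ⟨e⟩⟩ := hA
  obtain ⟨m, hm, ⟨f⟩⟩ := hB
  exact ⟨n * m, mul_ne_zero hn hm, ⟨(bcTensor k A B K).trans <|
    (Algebra.TensorProduct.congr e f).trans <|
    (Matrix.kroneckerAlgEquiv (Fin n) (Fin m) K).trans <|
    Matrix.reindexAlgEquiv K K finProdFinEquiv⟩⟩

end baseChange

/-! ### Central simple algebras -/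

theorem IsCSA.of_splits (K : Type y) [Field K] [Algebra k K] (h : Curves.Splits k A K) :
    IsCSA k A := by
  obtain ⟨h1, h2, h3⟩ := Groth.Agent.CurvesA.SepSplit.csa_of_splits k K A h
  exact ⟨h1, h2, h3⟩

theorem IsCSA.splits_sepClosed (h : IsCSA k A) (K : Type y) [Field K] [Algebra k K]
    [IsSepClosed K] : Curves.Splits k A K := by
  have := h.1; have := h.2; have := h.3
  exact Groth.Agent.CurvesA.SepSplit.splits_of_isSepClosed k K A

theorem IsCSA.of_inst [Algebra.IsCentral k A] [IsSimpleRing A] [FiniteDimensional k A] :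
    IsCSA k A := ⟨inferInstance, inferInstance, inferInstance⟩

theorem IsCSA.congr (h : IsCSA k A) (e : A ≃ₐ[k] B) : IsCSA k B :=
  IsCSA.of_splits (SeparableClosure k) (splits_congr _ e (h.splits_sepClosed _))

variable (k) in
theorem IsCSA.self : IsCSA k k := ⟨inferInstance, inferInstance, inferInstance⟩

theorem IsCSA.matrix (h : IsCSA k A) (n : ℕ) (hn : n ≠ 0) : IsCSA k (Matrix (Fin n) (Fin n) A) := by
  have := h.1; have := h.2; have := h.3
  have : NeZero n := ⟨hn⟩
  exact ⟨inferInstance, inferInstance, inferInstance⟩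

theorem IsCSA.op (h : IsCSA k A) : IsCSA k Aᵐᵒᵖ := by
  have := h.1; have := h.2; have := h.3
  have : Module.Finite k Aᵐᵒᵖ := Module.Finite.equiv (MulOpposite.opLinearEquiv k)
  exact ⟨inferInstance, inferInstance, inferInstance⟩

theorem IsCSA.tensor (h : IsCSA k A) (h' : IsCSA k B) : IsCSA k (A ⊗[k] B) :=
  IsCSA.of_splits (SeparableClosure k)
    (splits_tensor _ (h.splits_sepClosed _) (h'.splits_sepClosed _))

theorem IsCSA.baseChange (h : IsCSA k A) (K : Type y) [Field K] [Algebra k K] :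
    IsCSA K (K ⊗[k] A) := by
  have := h.1; have := h.2; have := h.3
  exact ⟨Groth.Agent.CurvesA.SepSplit.isCentral_baseChange k K A,
    Groth.Agent.CurvesA.SepSplit.isSimpleRing_baseChange k K A, inferInstance⟩

theorem IsCSA.nontrivial (h : IsCSA k A) : Nontrivial A := by
  have := h.2
  infer_instance

theorem IsCSA.finrank_pos (h : IsCSA k A) : 0 < finrank k A := by
  have := h.3
  have := h.nontrivial
  exact Module.finrank_pos

/-- A matrix algebra over `A` central simple implies `A` is. -/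
theorem IsCSA.of_matrix {n : ℕ} (hn : n ≠ 0) (h : IsCSA k (Matrix (Fin n) (Fin n) A)) :
    IsCSA k A := by
  have := h.1; have := h.2; have := h.3
  have : NeZero n := ⟨hn⟩
  refine ⟨Groth.Agent.CurvesA.SplitEmbed.isCentral_of_matrix k A n, ?_, ?_⟩
  · exact ⟨(TwoSidedIdeal.orderIsoMatrix (R := A) (n := Fin n)).isSimpleOrder⟩
  · have hinj : Function.Injective (Matrix.scalarAlgHom (Fin n) k : A →ₐ[k] _) := by
      intro a b hab
      have := congrFun (congrFun hab 0) 0
      simpa using this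
    exact Module.Finite.of_injective (Matrix.scalarAlgHom (Fin n) k : A →ₐ[k] _).toLinearMap hinj

theorem IsCSA.of_brEq (h : IsCSA k A) (hAB : BrEq k A B) : IsCSA k B := by
  obtain ⟨n, m, hn, hm, ⟨e⟩⟩ := hAB
  exact IsCSA.of_matrix hm ((h.matrix n hn).congr e)

/-- The Wedderburn decomposition. -/
theorem IsCSA.exists_div (h : IsCSA k A) : ∃ (n : ℕ) (D : Type v) (_ : DivisionRing D)
    (_ : Algebra k D), n ≠ 0 ∧ IsCSA k D ∧ Nonempty (A ≃ₐ[k] Matrix (Fin n) (Fin n) D) := by
  have := h.1; have := h.2; have := h.3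
  have : IsArtinianRing A := IsArtinianRing.of_finite k _
  obtain ⟨n, hn, D, hD, hD', ⟨e⟩⟩ := IsSimpleRing.exists_algEquiv_matrix_divisionRing k A
  exact ⟨n, D, hD, hD', hn.out, IsCSA.of_matrix hn.out (h.congr e), ⟨e⟩⟩

/-- Brauer equivalent division algebras are isomorphic. -/
theorem BrEq.div_unique {D : Type v} [DivisionRing D] [Algebra k D] {D' : Type w}
    [DivisionRing D'] [Algebra k D'] (hD : IsCSA k D) (h : BrEq k D D') :
    Nonempty (D ≃ₐ[k] D') := by
  obtain ⟨n, m, hn, hm, ⟨e⟩⟩ := h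
  have : NeZero n := ⟨hn⟩
  have : NeZero m := ⟨hm⟩
  have := hD.3
  exact Groth.Agent.CurvesA.MatrixDiv.nonempty_algEquiv D n k D' m e

/-- Brauer equivalent central simple algebras of the same dimension are isomorphic. -/
theorem BrEq.algEquiv_of_finrank_eq (hA : IsCSA k A) (h : BrEq k A B)
    (hd : finrank k A = finrank k B) : Nonempty (A ≃ₐ[k] B) := by
  have hB := hA.of_brEq h
  obtain ⟨n, D, _, _, hn, hD, ⟨e⟩⟩ := hA.exists_div
  obtain ⟨m, D', _, _, hm, hD', ⟨f⟩⟩ := hB.exists_div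
  obtain ⟨g⟩ := BrEq.div_unique hD
    ((BrEq.of_matrix hn e).symm.trans (h.trans (BrEq.of_matrix hm f)))
  have h1 := e.toLinearEquiv.finrank_eq
  have h2 := f.toLinearEquiv.finrank_eq
  rw [Module.finrank_matrix, Fintype.card_fin] at h1 h2
  rw [hd, h2, g.toLinearEquiv.finrank_eq] at h1
  have h3 := Nat.eq_of_mul_eq_mul_right hD'.finrank_pos h1
  have h4 : m = n := by
    have : m ^ 2 = n ^ 2 := by rw [sq, sq, h3]
    exact Nat.pow_left_injective two_ne_zero this
  subst h4
  exact ⟨e.trans (g.mapMatrix.trans f.symm)⟩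

theorem splits_iff_brEq (h : IsCSA k A) : Curves.Splits k A k ↔ BrEq k A k := by
  refine ⟨BrEq.of_splits, ?_⟩
  rintro ⟨n, m, hn, hm, ⟨e⟩⟩
  have := h.1; have := h.2; have := h.3
  refine Groth.Agent.CurvesA.Splitting.splits_of_splits_matrix k k A n hn ⟨m, hm, ⟨?_⟩⟩
  exact (Algebra.TensorProduct.lid k _).trans e

/-- `K` splits `A` iff the base change to `K` is Brauer equivalent to `K`. -/
theorem splits_iff_brEq_bc (h : IsCSA k A) (K : Type y) [Field K] [Algebra k K] :
    Curves.Splits k A K ↔ BrEq K (K ⊗[k] A) K := by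
  refine ⟨BrEq.of_splits_bc K, ?_⟩
  rintro ⟨n, m, hn, hm, ⟨e⟩⟩
  have := h.1; have := h.2; have := h.3
  refine Groth.Agent.CurvesA.Splitting.splits_of_splits_matrix k K A n hn ⟨m, hm, ⟨?_⟩⟩
  exact (bcMat k A K n).trans e

theorem BrEq.splits_iff (hA : IsCSA k A) (h : BrEq k A B) (K : Type y) [Field K] [Algebra k K] :
    Curves.Splits k A K ↔ Curves.Splits k B K := by
  have hB := hA.of_brEq h
  rw [splits_iff_brEq_bc hA K, splits_iff_brEq_bc hB K]
  exact ⟨fun h' => (h.baseChange K).symm.trans h', fun h' => (h.baseChange K).trans h'⟩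

/-- An action on a vector space of the right dimension splits the algebra. -/
theorem BrEq.of_end (h : IsCSA k A) (M : Type y) [AddCommGroup M] [Module k M]
    [FiniteDimensional k M] [Nontrivial M] (f : A →ₐ[k] Module.End k M)
    (hd : finrank k A = finrank k M ^ 2) : BrEq k A k := by
  have := h.1; have := h.2; have := h.3
  have hinj : Function.Injective f := f.toRingHom.injective
  have hbij : Function.Bijective f := by
    refine ⟨hinj, ?_⟩
    have h2 : finrank k A = finrank k (Module.End k M) := by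
      rw [hd, Module.finrank_linearMap, sq]
    exact (LinearMap.injective_iff_surjective_of_finrank_eq_finrank
      (f := f.toLinearMap) h2).mp hinj
  have e := (AlgEquiv.ofBijective f hbij).trans (algEquivMatrix (Module.finBasis k M))
  exact BrEq.of_matrix (Module.finrank_pos (R := k) (M := M)).ne' e

/-- `A ⊗ A^op ~ k`. -/
theorem BrEq.mul_op (h : IsCSA k A) : BrEq k (A ⊗[k] Aᵐᵒᵖ) k := by
  have := h.nontrivial
  have := h.3
  refine BrEq.of_end (h.tensor h.op) A (AlgHom.mulLeftRight k A) ?_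
  rw [Module.finrank_tensorProduct, (MulOpposite.opLinearEquiv k : A ≃ₗ[k] Aᵐᵒᵖ).finrank_eq, sq]

theorem BrEq.op_mul (h : IsCSA k A) : BrEq k (Aᵐᵒᵖ ⊗[k] A) k :=
  BrEq.tensor_comm.trans (BrEq.mul_op h)

/-- Cancellation. -/
theorem BrEq.cancel_right (hC : IsCSA k C) (h : BrEq k (A ⊗[k] C) (B ⊗[k] C)) : BrEq k A B := by
  have h1 : BrEq k ((A ⊗[k] C) ⊗[k] Cᵐᵒᵖ) A :=
    BrEq.tensor_assoc.trans (BrEq.tensor_split (BrEq.mul_op hC))
  have h2 : BrEq k ((B ⊗[k] C) ⊗[k] Cᵐᵒᵖ) B :=
    BrEq.tensor_assoc.trans (BrEq.tensor_split (BrEq.mul_op hC))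
  exact h1.symm.trans (h.tensor_right.trans h2)

theorem BrEq.cancel_left (hC : IsCSA k C) (h : BrEq k (C ⊗[k] A) (C ⊗[k] B)) : BrEq k A B :=
  BrEq.cancel_right hC (BrEq.tensor_comm.trans (h.trans BrEq.tensor_comm))

theorem BrEq.of_tensor_op (hB : IsCSA k B) (h : BrEq k (A ⊗[k] Bᵐᵒᵖ) k) : BrEq k A B :=
  BrEq.cancel_right hB.op (h.trans (BrEq.mul_op hB).symm)

/-- A bimodule of the right dimension gives a Brauer equivalence: `A` acts on the left and `B` on
the right of `M`, and `dim A * dim B = (dim M)^2`. -/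
theorem BrEq.of_bimodule (hA : IsCSA k A) (hB : IsCSA k B) (M : Type y) [AddCommGroup M]
    [Module k M] [FiniteDimensional k M] (f : A →ₐ[k] Module.End k M)
    (g : Bᵐᵒᵖ →ₐ[k] Module.End k M) (hfg : ∀ a b, Commute (f a) (g b))
    (hd : finrank k A * finrank k B = finrank k M ^ 2) : BrEq k A B := by
  have hM : Nontrivial M := by
    apply Module.nontrivial_of_finrank_pos (R := k)
    have := Nat.mul_pos hA.finrank_pos hB.finrank_pos
    rw [hd] at this
    exact Nat.pos_of_ne_zero fun h0 => by simp [h0] at this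
  refine BrEq.of_tensor_op hB (BrEq.of_end (hA.tensor hB.op) M
    (Algebra.TensorProduct.lift f g hfg) ?_)
  rw [Module.finrank_tensorProduct, ← (MulOpposite.opLinearEquiv k : B ≃ₗ[k] Bᵐᵒᵖ).finrank_eq, hd]

end general

end K441.Br
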