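import Groth.Agent.Brauer.K441.TPow
import Groth.Agent.CurvesA.SkolemNoether
import Groth.Agent.GalCoh.K447.Descent
import Mathlib.RingTheory.IsGaloisGroup.Basic
import Mathlib.FieldTheory.Galois.IsGaloisGroup
import Mathlib.LinearAlgebra.Matrix.Kronecker

/-!
# Factor sets of central simple algebras

A group `G` acts on a field `K` over `k`.  A split matrix representation `β : A → M_ι(K)` of a central
simple algebra comes with semilinear intertwiners `g` and a factor set `a`.
-/

set_option autoImplicit false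
set_option linter.unusedSectionVars false
universe u v w x y z

open scoped TensorProduct Kronecker
open Module K441.Br

namespace K441.FacSet

variable {G : Type z} [Group G] {k : Type u} [Field k] {K : Type v} [Field K] [Algebra k K]
  [MulSemiringAction G K]
variable {A : Type w} [Ring A] [Algebra k A]
variable {ι : Type} [Fintype ι] [DecidableEq ι]

/-- The entrywise action on matrices. -/
def act (σ : G) : Matrix ι ι K →+* Matrix ι ι K := (MulSemiringAction.toRingHom G K σ).mapMatrix

omit [Algebra k K] in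
theorem act_apply (σ : G) (X : Matrix ι ι K) (i j : ι) : act σ X i j = σ • X i j := rfl

theorem act_mul (σ τ : G) (X : Matrix ι ι K) : act (σ * τ) X = act σ (act τ X) := by
  ext i j
  simp only [act_apply, mul_smul]

theorem act_smul (σ : G) (c : K) (X : Matrix ι ι K) : act σ (c • X) = (σ • c) • act σ X := by
  ext i j
  simp only [act_apply, Matrix.smul_apply, smul_eq_mul, smul_mul']

/-- The action on units. -/
def uact (σ : G) : Kˣ →* Kˣ := Units.map (MulSemiringAction.toRingHom G K σ : K →* K)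

omit [Algebra k K] in
theorem uact_coe (σ : G) (c : Kˣ) : ((uact σ c : Kˣ) : K) = σ • (c : K) := rfl

theorem act_smul_one (σ : G) (c : K) : act σ (c • (1 : Matrix ι ι K)) = (σ • c) • 1 := by
  rw [act_smul, map_one]

/-- The entrywise action as a `k`-algebra map. -/
noncomputable def actA [SMulCommClass G k K] (σ : G) : Matrix ι ι K →ₐ[k] Matrix ι ι K :=
  (MulSemiringAction.toAlgHom k K σ).mapMatrix

theorem actA_apply [SMulCommClass G k K] (σ : G) (X : Matrix ι ι K) :
    actA (k := k) σ X = act σ X := rfl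

theorem ofId_commute (β : A →ₐ[k] Matrix ι ι K) (c : K) (x : A) :
    Commute (Algebra.ofId K (Matrix ι ι K) c) (β x) := Algebra.commute_algebraMap_left c (β x)

/-- The `K`-linear extension of a representation. -/
noncomputable def ext (β : A →ₐ[k] Matrix ι ι K) : K ⊗[k] A →ₐ[K] Matrix ι ι K :=
  Algebra.TensorProduct.lift (Algebra.ofId K _) β (ofId_commute β)

theorem ext_tmul (β : A →ₐ[k] Matrix ι ι K) (c : K) (x : A) : ext β (c ⊗ₜ x) = c • β x := by
  rw [ext, Algebra.TensorProduct.lift_tmul, Algebra.ofId_apply, Algebra.smul_def]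

theorem ext_one_tmul (β : A →ₐ[k] Matrix ι ι K) (x : A) : ext β (1 ⊗ₜ x) = β x := by
  rw [ext_tmul, one_smul]

theorem ext_bijective (hA : IsCSA k A) (β : A →ₐ[k] Matrix ι ι K)
    (hd : finrank k A = Fintype.card ι * Fintype.card ι) : Function.Bijective (ext β) := by
  have h1 := hA.baseChange K
  have := h1.1; have := h1.2; have := h1.3
  have := hA.finrank_pos
  have hne : Nonempty ι := by
    rw [hd] at this
    exact Fintype.card_pos_iff.mp (Nat.pos_of_mul_pos_left this)
  have hinj : Function.Injective (ext β) := (ext β).toRingHom.injective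
  refine ⟨hinj, ?_⟩
  refine (LinearMap.injective_iff_surjective_of_finrank_eq_finrank
      (f := (ext β).toLinearMap) ?_).mp hinj
  rw [Module.finrank_baseChange, hd, Module.finrank_matrix, Module.finrank_self, mul_one]

theorem exists_conj (hA : IsCSA k A) [Nonempty ι] (β β' : A →ₐ[k] Matrix ι ι K) :
    ∃ P : (Matrix ι ι K)ˣ, ∀ x, β x * P = P * β' x := by
  have h1 := hA.baseChange K
  have := h1.2
  obtain ⟨P, hP⟩ := Groth.Agent.CurvesA.SkolemNoether.skolemNoether K (Matrix ι ι K) (K ⊗[k] A) (ext β) (ext β')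
  refine ⟨P, fun x => ?_⟩
  have := hP (1 ⊗ₜ x)
  rw [ext_one_tmul, ext_one_tmul] at this
  rw [this, mul_assoc, Units.inv_mul, mul_one]

theorem scalar_of_commute (hA : IsCSA k A) (β : A →ₐ[k] Matrix ι ι K)
    (hd : finrank k A = Fintype.card ι * Fintype.card ι) (X : Matrix ι ι K)
    (hX : ∀ x, β x * X = X * β x) : ∃ c : K, X = c • 1 := by
  have h1 : ∀ z : K ⊗[k] A, ext β z * X = X * ext β z := by
    intro z
    induction z using TensorProduct.induction_on with
    | zero => simp
    | add x y hx hy => rw [map_add, add_mul, mul_add, hx, hy]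
    | tmul c x =>
      rw [ext_tmul, smul_mul_assoc, mul_smul_comm, hX]
  have h2 : X ∈ Subalgebra.center K (Matrix ι ι K) := by
    rw [Subalgebra.mem_center_iff]
    intro b
    obtain ⟨z, rfl⟩ := (ext_bijective hA β hd).2 b
    exact h1 z
  have h3 := (Algebra.IsCentral.out : Subalgebra.center K (Matrix ι ι K) ≤ ⊥) h2
  obtain ⟨c, hc⟩ := Algebra.mem_bot.mp h3
  exact ⟨c, by rw [← hc, Algebra.algebraMap_eq_smul_one]⟩

/-- `β` is a split representation of `A` over `K`, `g` a family of semilinear intertwiners and `a`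
its factor set. -/
structure IsFS (β : A →ₐ[k] Matrix ι ι K) (g : G → (Matrix ι ι K)ˣ) (a : G → G → Kˣ) : Prop where
  finrank : finrank k A = Fintype.card ι * Fintype.card ι
  comm : ∀ σ x, β x * g σ = g σ * act σ (β x)
  mul : ∀ σ τ, (g σ : Matrix ι ι K) * act σ (g τ) = (a σ τ : K) • (g (σ * τ) : Matrix ι ι K)

theorem IsFS.nonempty (hA : IsCSA k A) {β : A →ₐ[k] Matrix ι ι K} {g : G → (Matrix ι ι K)ˣ}
    {a : G → G → Kˣ} (h : IsFS β g a) : Nonempty ι := by
  have := hA.finrank_pos
  rw [h.finrank] at this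
  exact Fintype.card_pos_iff.mp (Nat.pos_of_mul_pos_left this)

/-- Existence of factor sets. -/
theorem exists_isFS [SMulCommClass G k K] (hA : IsCSA k A) (β : A →ₐ[k] Matrix ι ι K)
    (hd : finrank k A = Fintype.card ι * Fintype.card ι) :
    ∃ (g : G → (Matrix ι ι K)ˣ) (a : G → G → Kˣ), IsFS β g a := by
  have := hA.finrank_pos
  have hne : Nonempty ι := by
    rw [hd] at this
    exact Fintype.card_pos_iff.mp (Nat.pos_of_mul_pos_left this)
  have h1 : ∀ σ : G, ∃ P : (Matrix ι ι K)ˣ, ∀ x, β x * P = P * act σ (β x) := fun σ =>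
    exists_conj hA β ((actA σ).comp β)
  choose g hg using h1
  have h2 : ∀ σ τ : G, ∃ c : Kˣ, (g σ : Matrix ι ι K) * act σ (g τ) =
      (c : K) • (g (σ * τ) : Matrix ι ι K) := by
    intro σ τ
    have e1 : ∀ x, act (σ * τ) (β x) * (↑(g (σ * τ))⁻¹ : Matrix ι ι K) =
        (↑(g (σ * τ))⁻¹ : Matrix ι ι K) * β x := by
      intro x
      rw [← Units.mul_right_inj (g (σ * τ)), ← mul_assoc, ← hg, mul_assoc, Units.mul_inv, mul_one,
        ← mul_assoc, Units.mul_inv, one_mul]
    have e2 : ∀ x, β x * ((g σ : Matrix ι ι K) * act σ (g τ)) =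
        ((g σ : Matrix ι ι K) * act σ (g τ)) * act (σ * τ) (β x) := by
      intro x
      rw [← mul_assoc, hg, mul_assoc, ← map_mul, hg, map_mul, ← act_mul, ← mul_assoc]
    obtain ⟨c, hc⟩ := scalar_of_commute hA β hd
      ((g σ : Matrix ι ι K) * act σ (g τ) * (↑(g (σ * τ))⁻¹ : Matrix ι ι K)) (by
        intro x
        rw [← mul_assoc, e2, mul_assoc, e1, ← mul_assoc])
    have hc' : (g σ : Matrix ι ι K) * act σ (g τ) = c • (g (σ * τ) : Matrix ι ι K) := by
      rw [Units.mul_inv_eq_iff_eq_mul] at hc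
      rw [hc, smul_mul_assoc, one_mul]
    have hc0 : c ≠ 0 := by
      rintro rfl
      rw [zero_smul] at hc'
      have : IsUnit ((g σ : Matrix ι ι K) * act σ (g τ)) :=
        (g σ).isUnit.mul ((g τ).isUnit.map (act σ))
      rw [hc'] at this
      exact not_isUnit_zero this
    exact ⟨Units.mk0 c hc0, hc'⟩
  choose a ha using h2
  exact ⟨g, a, hd, fun σ x => hg σ x, ha⟩

/-- Rescaling the intertwiners. -/
theorem IsFS.rescale {β : A →ₐ[k] Matrix ι ι K} {g : G → (Matrix ι ι K)ˣ}
    {a : G → G → Kˣ} (h : IsFS β g a) (c : G → Kˣ) :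
    IsFS β (fun σ => Units.map (algebraMap K (Matrix ι ι K) : K →* Matrix ι ι K) (c σ) * g σ)
      (fun σ τ => c σ * uact σ (c τ) * (c (σ * τ))⁻¹ * a σ τ) where
  finrank := h.finrank
  comm σ x := by
    have e : (Units.map (algebraMap K (Matrix ι ι K) : K →* Matrix ι ι K) (c σ) : Matrix ι ι K) =
      algebraMap K (Matrix ι ι K) (c σ : K) := rfl
    rw [Units.val_mul, e, ← Algebra.smul_def, mul_smul_comm, h.comm, smul_mul_assoc]
  mul σ τ := by
    have e : ∀ c : Kˣ, (Units.map (algebraMap K (Matrix ι ι K) : K →* Matrix ι ι K) c : Matrix ι ι K) =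
      algebraMap K (Matrix ι ι K) (c : K) := fun _ => rfl
    simp only [Units.val_mul, e, ← Algebra.smul_def, act_smul, smul_mul_assoc, mul_smul_comm, h.mul,
      smul_smul, uact_coe]
    congr 1
    have hne := (c (σ * τ)).ne_zero
    rw [Units.val_inv_eq_inv_val]
    field_simp

/-- Two factor sets of the same algebra differ by a coboundary. -/
theorem IsFS.cohom (hA : IsCSA k A) {β β' : A →ₐ[k] Matrix ι ι K} {g g' : G → (Matrix ι ι K)ˣ}
    {a a' : G → G → Kˣ} (h : IsFS β g a) (h' : IsFS β' g' a') :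
    ∃ c : G → Kˣ, ∀ σ τ, a' σ τ = c σ * uact σ (c τ) * (c (σ * τ))⁻¹ * a σ τ := by
  have hne := h.nonempty hA
  obtain ⟨P, hP⟩ := exists_conj hA β β'
  have hP' : ∀ x, β' x * (↑P⁻¹ : Matrix ι ι K) = (↑P⁻¹ : Matrix ι ι K) * β x := by
    intro x
    rw [← Units.mul_right_inj P, ← mul_assoc, ← hP, mul_assoc, Units.mul_inv, mul_one,
        ← mul_assoc, Units.mul_inv, one_mul]
  -- `g' σ = c σ • P⁻¹ (g σ) (σ P)`
  have h1 : ∀ σ : G, ∃ c : Kˣ, (P : Matrix ι ι K) * (g' σ : Matrix ι ι K) =
      (c : K) • ((g σ : Matrix ι ι K) * act σ (P : Matrix ι ι K)) := by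
    intro σ
    let Q : (Matrix ι ι K)ˣ := g σ * Units.map ((act σ : Matrix ι ι K →+* Matrix ι ι K) : Matrix ι ι K →* Matrix ι ι K) P
    have hQ : (Q : Matrix ι ι K) = (g σ : Matrix ι ι K) * act σ (P : Matrix ι ι K) := rfl
    have hQ1 : ∀ x, β x * Q = Q * act σ (β' x) := by
      intro x
      rw [hQ, ← mul_assoc, h.comm, mul_assoc, ← map_mul, hP, map_mul, mul_assoc]
    have hQ2 : ∀ x, act σ (β' x) * (↑Q⁻¹ : Matrix ι ι K) = (↑Q⁻¹ : Matrix ι ι K) * β x := by
      intro x
      rw [← Units.mul_right_inj Q, ← mul_assoc, ← hQ1, mul_assoc, Units.mul_inv, mul_one,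
        ← mul_assoc, Units.mul_inv, one_mul]
    obtain ⟨c, hc⟩ := scalar_of_commute hA β h.finrank
      ((P : Matrix ι ι K) * g' σ * (↑Q⁻¹ : Matrix ι ι K)) (by
        intro x
        rw [← mul_assoc, ← mul_assoc, hP, mul_assoc _ (β' x), h'.comm, mul_assoc, mul_assoc, hQ2]
        simp only [mul_assoc])
    rw [Units.mul_inv_eq_iff_eq_mul, smul_mul_assoc, one_mul] at hc
    have hc0 : c ≠ 0 := by
      rintro rfl
      rw [zero_smul] at hc
      have : IsUnit ((P : Matrix ι ι K) * g' σ) := P.isUnit.mul (g' σ).isUnit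
      rw [hc] at this
      exact not_isUnit_zero this
    exact ⟨Units.mk0 c hc0, hc⟩
  choose c hc using h1
  refine ⟨c, fun σ τ => ?_⟩
  have e1 : (P : Matrix ι ι K) * ((g' σ : Matrix ι ι K) * act σ (g' τ)) =
      ((c σ : K) * σ • (c τ : K) * (a σ τ : K)) • ((g (σ * τ) : Matrix ι ι K) * act (σ * τ) P) := by
    rw [← mul_assoc, hc, smul_mul_assoc, mul_assoc, ← map_mul, hc, act_smul, map_mul, ← act_mul,
      mul_smul_comm, ← mul_assoc, h.mul, smul_mul_assoc, smul_smul, smul_smul]
  have e2 : (P : Matrix ι ι K) * ((g' σ : Matrix ι ι K) * act σ (g' τ)) =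
      ((a' σ τ : K) * (c (σ * τ) : K)) • ((g (σ * τ) : Matrix ι ι K) * act (σ * τ) P) := by
    rw [h'.mul, mul_smul_comm, hc, smul_smul]
  have hu : IsUnit ((g (σ * τ) : Matrix ι ι K) * act (σ * τ) P) :=
    (g (σ * τ)).isUnit.mul (P.isUnit.map (act (σ * τ)))
  have e3 : (c σ : K) * σ • (c τ : K) * (a σ τ : K) = (a' σ τ : K) * (c (σ * τ) : K) := by
    have e4 := e1.symm.trans e2
    rw [← sub_eq_zero, ← sub_smul] at e4
    rcases smul_eq_zero.mp e4 with h5 | h5
    · exact sub_eq_zero.mp h5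
    · rw [h5] at hu
      exact absurd hu not_isUnit_zero
  ext
  simp only [Units.val_mul, uact_coe, Units.val_inv_eq_inv_val]
  have hne := (c (σ * τ)).ne_zero
  field_simp
  rw [e3]

section descent

variable {B : Type y} [Ring B] [Algebra k B] {κ : Type} [Fintype κ] [DecidableEq κ]
variable {g : G → (Matrix ι ι K)ˣ} {g' : G → (Matrix κ κ K)ˣ} {a : G → G → Kˣ}

/-- The entrywise action on rectangular matrices. -/
def ract (σ : G) (X : Matrix ι κ K) : Matrix ι κ K := X.map (MulSemiringAction.toRingHom G K σ)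

theorem ract_ract (σ τ : G) (X : Matrix ι κ K) : ract (σ * τ) X = ract σ (ract τ X) := by
  ext i j
  exact mul_smul σ τ (X i j)

theorem ract_one (X : Matrix ι κ K) : ract (1 : G) X = X := by
  ext i j
  exact one_smul G (X i j)

theorem ract_add (σ : G) (X Y : Matrix ι κ K) : ract σ (X + Y) = ract σ X + ract σ Y := by
  ext i j
  exact smul_add σ (X i j) (Y i j)

theorem ract_smul (σ : G) (c : K) (X : Matrix ι κ K) : ract σ (c • X) = (σ • c) • ract σ X := by
  ext i j
  exact smul_mul' σ c (X i j)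

theorem ract_smul_base [SMulCommClass G k K] (σ : G) (c : k) (X : Matrix ι κ K) :
    ract σ (c • X) = c • ract σ X := by
  ext i j
  exact smul_comm σ c (X i j)

theorem ract_mul_left (σ : G) (Z : Matrix ι ι K) (X : Matrix ι κ K) :
    ract σ (Z * X) = act σ Z * ract σ X := Matrix.map_mul

theorem ract_mul_right (σ : G) (X : Matrix ι κ K) (Z : Matrix κ κ K) :
    ract σ (X * Z) = ract σ X * act σ Z := Matrix.map_mul

/-- The twisted semilinear action. -/
def tw (g : G → (Matrix ι ι K)ˣ) (g' : G → (Matrix κ κ K)ˣ) (σ : G) (X : Matrix ι κ K) :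
    Matrix ι κ K := (g σ : Matrix ι ι K) * ract σ X * (↑(g' σ)⁻¹ : Matrix κ κ K)

theorem tw_mul_eq (σ : G) (X : Matrix ι κ K) :
    tw g g' σ X * (g' σ : Matrix κ κ K) = (g σ : Matrix ι ι K) * ract σ X := by
  rw [tw, Matrix.mul_assoc, Units.inv_mul, Matrix.mul_one]

theorem tw_eq_iff (σ : G) (X Y : Matrix ι κ K) :
    tw g g' σ X = Y ↔ (g σ : Matrix ι ι K) * ract σ X = Y * (g' σ : Matrix κ κ K) := by
  rw [← tw_mul_eq]
  constructor
  · intro h
    rw [h]
  · intro h
    have := congrArg (fun Z => Z * (↑(g' σ)⁻¹ : Matrix κ κ K)) h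
    simpa only [Matrix.mul_assoc, Units.mul_inv, Matrix.mul_one] using this

theorem tw_mul (hg : ∀ σ τ, (g σ : Matrix ι ι K) * act σ (g τ) = (a σ τ : K) • (g (σ * τ) : Matrix ι ι K))
    (hg' : ∀ σ τ, (g' σ : Matrix κ κ K) * act σ (g' τ) = (a σ τ : K) • (g' (σ * τ) : Matrix κ κ K))
    (σ τ : G) (X : Matrix ι κ K) : tw g g' (σ * τ) X = tw g g' σ (tw g g' τ X) := by
  rw [tw_eq_iff]
  have h1 : tw g g' σ (tw g g' τ X) * ((a σ τ : K) • (g' (σ * τ) : Matrix κ κ K)) =
      (a σ τ : K) • ((g (σ * τ) : Matrix ι ι K) * ract (σ * τ) X) := by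
    rw [← hg', ← Matrix.mul_assoc, tw_mul_eq, Matrix.mul_assoc, ← ract_mul_right, tw_mul_eq,
      ract_mul_left, ← Matrix.mul_assoc, hg, ract_ract, Matrix.smul_mul]
  rw [Matrix.mul_smul] at h1
  have h2 := congrArg (fun Z => (a σ τ : K)⁻¹ • Z) h1
  simp only [smul_smul, inv_mul_cancel₀ (a σ τ).ne_zero, one_smul] at h2
  exact h2.symm

theorem eq_of_mul (hg : ∀ σ τ, (g σ : Matrix ι ι K) * act σ (g τ) = (a σ τ : K) • (g (σ * τ) : Matrix ι ι K)) :
    (g 1 : Matrix ι ι K) = (a 1 1 : K) • 1 := by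
  have h := hg 1 1
  rw [mul_one] at h
  have e : act (1 : G) (g 1 : Matrix ι ι K) = g 1 := by
    ext i j
    exact one_smul G _
  rw [e] at h
  refine (Units.mul_left_inj (g 1)).mp ?_
  rw [h, smul_mul_assoc, one_mul]

theorem tw_one (hg : ∀ σ τ, (g σ : Matrix ι ι K) * act σ (g τ) = (a σ τ : K) • (g (σ * τ) : Matrix ι ι K))
    (hg' : ∀ σ τ, (g' σ : Matrix κ κ K) * act σ (g' τ) = (a σ τ : K) • (g' (σ * τ) : Matrix κ κ K))
    (X : Matrix ι κ K) : tw g g' 1 X = X := by
  rw [tw_eq_iff, eq_of_mul hg, eq_of_mul hg', ract_one, Matrix.smul_mul, Matrix.mul_smul,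
    Matrix.one_mul, Matrix.mul_one]

variable [SMulCommClass G k K]

/-- The invariants of the twisted action. -/
def inv (k : Type u) [Field k] [Algebra k K] [SMulCommClass G k K]
    (g : G → (Matrix ι ι K)ˣ) (g' : G → (Matrix κ κ K)ˣ) : Submodule k (Matrix ι κ K) where
  carrier := {X | ∀ σ, (g σ : Matrix ι ι K) * ract σ X = X * (g' σ : Matrix κ κ K)}
  add_mem' := by
    intro X Y hX hY σ
    rw [ract_add, Matrix.mul_add, hX, hY, Matrix.add_mul]
  zero_mem' := by
    intro σ
    have : ract σ (0 : Matrix ι κ K) = 0 := by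
      ext i j
      exact smul_zero σ
    rw [this, Matrix.mul_zero, Matrix.zero_mul]
  smul_mem' := by
    intro c X hX σ
    rw [ract_smul_base, Matrix.mul_smul, hX, Matrix.smul_mul]

theorem finrank_inv [Finite G] [hG : IsGaloisGroup G k K]
    (hg : ∀ σ τ, (g σ : Matrix ι ι K) * act σ (g τ) = (a σ τ : K) • (g (σ * τ) : Matrix ι ι K))
    (hg' : ∀ σ τ, (g' σ : Matrix κ κ K) * act σ (g' τ) = (a σ τ : K) • (g' (σ * τ) : Matrix κ κ K)) :
    finrank k (inv k g g') = Fintype.card ι * Fintype.card κ := by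
  have := IsGaloisGroup.isGalois G k K
  have := IsGaloisGroup.finiteDimensional G k K
  let e : G ≃* (K ≃ₐ[k] K) := IsGaloisGroup.mulEquivAlgEquiv G k K
  have he : ∀ (σ : K ≃ₐ[k] K) (c : K), e.symm σ • c = σ c := by
    intro σ c
    obtain ⟨τ, rfl⟩ := e.surjective σ
    rw [e.symm_apply_apply]
    rfl
  have hs : K447.Descent.IsSemi (k := k) (K := K)
      (fun (σ : K ≃ₐ[k] K) (X : Matrix ι κ K) => tw g g' (e.symm σ) X) :=
    { one := fun X => by rw [map_one, tw_one hg hg']
      mul := fun σ τ X => by rw [map_mul, tw_mul hg hg']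
      add := fun σ X Y => by rw [tw, ract_add, Matrix.mul_add, Matrix.add_mul]; rfl
      smul := fun σ c X => by rw [tw, ract_smul, he, Matrix.mul_smul, Matrix.smul_mul]; rfl }
  have hb := K447.Descent.bijective_liftBaseChange hs (inv k g g').subtype
    (inv k g g').injective_subtype (fun X => by
      constructor
      · rintro ⟨Y, rfl⟩ σ
        exact (tw_eq_iff _ _ _).mpr (Y.2 _)
      · intro h
        exact ⟨⟨X, fun σ => by
          have := h (e σ)
          rw [e.symm_apply_apply] at this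
          exact (tw_eq_iff _ _ _).mp this⟩, rfl⟩)
  have h1 := (LinearEquiv.ofBijective _ hb).finrank_eq
  rw [Module.finrank_baseChange, Module.finrank_matrix, Module.finrank_self, mul_one] at h1
  exact h1

/-- **Equal factor sets give Brauer equivalent algebras.** -/
theorem IsFS.brEq [Finite G] [hG : IsGaloisGroup G k K] (hA : IsCSA k A) (hB : IsCSA k B)
    {β : A →ₐ[k] Matrix ι ι K} {β' : B →ₐ[k] Matrix κ κ K} (h : IsFS β g a) (h' : IsFS β' g' a) :
    BrEq k A B := by
  have hd := finrank_inv (k := k) h.mul h'.mul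
  have := IsGaloisGroup.finiteDimensional G k K
  let f : A →ₐ[k] Module.End k (inv k g g') :=
    { toFun := fun x =>
        { toFun := fun X => ⟨β x * X.1, fun σ => by
            rw [ract_mul_left, ← Matrix.mul_assoc, ← h.comm, Matrix.mul_assoc, X.2 σ,
              Matrix.mul_assoc]⟩
          map_add' := fun X Y => Subtype.ext (Matrix.mul_add _ _ _)
          map_smul' := fun c X => Subtype.ext (Matrix.mul_smul _ _ _) }
      map_one' := by
        ext X : 2
        show β 1 * X.1 = X.1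
        rw [map_one, Matrix.one_mul]
      map_mul' := fun x y => by
        ext X : 2
        show β (x * y) * X.1 = β x * (β y * X.1)
        rw [map_mul, Matrix.mul_assoc]
      map_zero' := by
        ext X : 2
        show β 0 * X.1 = 0
        rw [map_zero, Matrix.zero_mul]
      map_add' := fun x y => by
        ext X : 2
        show β (x + y) * X.1 = β x * X.1 + β y * X.1
        rw [map_add, Matrix.add_mul]
      commutes' := fun c => by
        ext X : 2
        show β (algebraMap k A c) * X.1 = c • X.1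
        rw [AlgHom.commutes, Algebra.algebraMap_eq_smul_one, Matrix.smul_mul, Matrix.one_mul] }
  let f' : Bᵐᵒᵖ →ₐ[k] Module.End k (inv k g g') :=
    { toFun := fun x =>
        { toFun := fun X => ⟨X.1 * β' x.unop, fun σ => by
            rw [ract_mul_right, ← Matrix.mul_assoc, X.2 σ, Matrix.mul_assoc, ← h'.comm,
              Matrix.mul_assoc]⟩
          map_add' := fun X Y => Subtype.ext (Matrix.add_mul _ _ _)
          map_smul' := fun c X => Subtype.ext (Matrix.smul_mul _ _ _) }
      map_one' := by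
        ext X : 2
        show X.1 * β' 1 = X.1
        rw [map_one, Matrix.mul_one]
      map_mul' := fun x y => by
        ext X : 2
        show X.1 * β' (x * y).unop = X.1 * β' y.unop * β' x.unop
        rw [MulOpposite.unop_mul, map_mul, Matrix.mul_assoc]
      map_zero' := by
        ext X : 2
        show X.1 * β' 0 = 0
        rw [map_zero, Matrix.mul_zero]
      map_add' := fun x y => by
        ext X : 2
        show X.1 * β' (x + y).unop = X.1 * β' x.unop + X.1 * β' y.unop
        rw [MulOpposite.unop_add, map_add, Matrix.mul_add]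
      commutes' := fun c => by
        ext X : 2
        show X.1 * β' (algebraMap k Bᵐᵒᵖ c).unop = c • X.1
        rw [MulOpposite.algebraMap_apply, MulOpposite.unop_op, AlgHom.commutes,
          Algebra.algebraMap_eq_smul_one, Matrix.mul_smul, Matrix.mul_one] }
  have hfin : FiniteDimensional k (inv k g g') := by
    have : FiniteDimensional k (Matrix ι κ K) := inferInstance
    infer_instance
  refine BrEq.of_bimodule hA hB (inv k g g') f f' (fun x y => ?_) ?_
  · ext X : 2
    show β x * (X.1 * β' y.unop) = (β x * X.1) * β' y.unop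
    rw [Matrix.mul_assoc]
  · rw [hd, h.finrank, h'.finrank]
    ring

end descent

section tensor

variable {B : Type y} [Ring B] [Algebra k B] {κ : Type} [Fintype κ] [DecidableEq κ]

/-- `X ↦ X ⊗ 1`. -/
noncomputable def kl (ι κ : Type) [Fintype ι] [DecidableEq ι] [Fintype κ] [DecidableEq κ] :
    Matrix ι ι K →ₐ[K] Matrix (ι × κ) (ι × κ) K :=
  (Matrix.kroneckerAlgEquiv ι κ K).toAlgHom.comp
    (Algebra.TensorProduct.includeLeft : Matrix ι ι K →ₐ[K] Matrix ι ι K ⊗[K] Matrix κ κ K)

/-- `X ↦ 1 ⊗ X`. -/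
noncomputable def kr (ι κ : Type) [Fintype ι] [DecidableEq ι] [Fintype κ] [DecidableEq κ] :
    Matrix κ κ K →ₐ[K] Matrix (ι × κ) (ι × κ) K :=
  (Matrix.kroneckerAlgEquiv ι κ K).toAlgHom.comp
    (Algebra.TensorProduct.includeRight : Matrix κ κ K →ₐ[K] Matrix ι ι K ⊗[K] Matrix κ κ K)

theorem kl_apply (X : Matrix ι ι K) : kl ι κ X = X ⊗ₖ (1 : Matrix κ κ K) := rfl

theorem kr_apply (X : Matrix κ κ K) : kr ι κ X = (1 : Matrix ι ι K) ⊗ₖ X := rfl

theorem kl_kr (X : Matrix ι ι K) (Y : Matrix κ κ K) : kl ι κ X * kr ι κ Y = kr ι κ Y * kl ι κ X := by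
  rw [kl_apply, kr_apply, ← Matrix.mul_kronecker_mul, ← Matrix.mul_kronecker_mul, Matrix.one_mul,
    Matrix.one_mul, Matrix.mul_one, Matrix.mul_one]

theorem kk (X X' : Matrix ι ι K) (Y Y' : Matrix κ κ K) :
    (kl ι κ X * kr ι κ Y) * (kl ι κ X' * kr ι κ Y') = kl ι κ (X * X') * kr ι κ (Y * Y') := by
  rw [mul_assoc, ← mul_assoc (kr ι κ Y), ← kl_kr, map_mul, map_mul]
  simp only [mul_assoc]

theorem act_kl (σ : G) (X : Matrix ι ι K) : act σ (kl ι κ X) = kl ι κ (act σ X) := by
  ext ⟨i, i'⟩ ⟨j, j'⟩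
  rw [kl_apply, kl_apply, act_apply, Matrix.kronecker_apply, Matrix.kronecker_apply, smul_mul',
    act_apply]
  congr 1
  rw [Matrix.one_apply]
  split_ifs
  · exact smul_one σ
  · exact smul_zero σ

theorem act_kr (σ : G) (X : Matrix κ κ K) : act σ (kr ι κ X) = kr ι κ (act σ X) := by
  ext ⟨i, i'⟩ ⟨j, j'⟩
  rw [kr_apply, kr_apply, act_apply, Matrix.kronecker_apply, Matrix.kronecker_apply, smul_mul',
    act_apply]
  congr 1
  rw [Matrix.one_apply]
  split_ifs
  · exact smul_one σ
  · exact smul_zero σ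

theorem kl_kr_commute (β : A →ₐ[k] Matrix ι ι K) (β' : B →ₐ[k] Matrix κ κ K) (x : A) (y : B) :
    Commute ((((kl ι κ).restrictScalars k).comp β) x) ((((kr ι κ).restrictScalars k).comp β') y) :=
  kl_kr _ _

/-- The tensor product of two representations. -/
noncomputable def tens (β : A →ₐ[k] Matrix ι ι K) (β' : B →ₐ[k] Matrix κ κ K) :
    A ⊗[k] B →ₐ[k] Matrix (ι × κ) (ι × κ) K :=
  Algebra.TensorProduct.lift (((kl ι κ).restrictScalars k).comp β) (((kr ι κ).restrictScalars k).comp β')
    (kl_kr_commute β β')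

theorem tens_tmul (β : A →ₐ[k] Matrix ι ι K) (β' : B →ₐ[k] Matrix κ κ K) (x : A) (y : B) :
    tens β β' (x ⊗ₜ y) = kl ι κ (β x) * kr ι κ (β' y) := by
  rw [tens, Algebra.TensorProduct.lift_tmul]
  rfl

/-- **Tensor products.** -/
theorem IsFS.tensor {β : A →ₐ[k] Matrix ι ι K} {β' : B →ₐ[k] Matrix κ κ K}
    {g : G → (Matrix ι ι K)ˣ} {g' : G → (Matrix κ κ K)ˣ} {a a' : G → G → Kˣ}
    (h : IsFS β g a) (h' : IsFS β' g' a') :
    IsFS (tens β β') (fun σ => Units.map ((kl (K := K) ι κ : Matrix ι ι K →ₐ[K] _) : Matrix ι ι K →* _) (g σ) *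
      Units.map ((kr (K := K) ι κ : Matrix κ κ K →ₐ[K] _) : Matrix κ κ K →* _) (g' σ))
      (fun σ τ => a σ τ * a' σ τ) where
  finrank := by
    rw [Module.finrank_tensorProduct, h.finrank, h'.finrank, Fintype.card_prod]
    ring
  comm σ z := by
    show _ * (kl ι κ (g σ : Matrix ι ι K) * kr ι κ (g' σ : Matrix κ κ K)) =
      (kl ι κ (g σ : Matrix ι ι K) * kr ι κ (g' σ : Matrix κ κ K)) * _
    induction z using TensorProduct.induction_on with
    | zero => simp
    | add x y hx hy => rw [map_add, add_mul, hx, hy, map_add, mul_add]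
    | tmul x y =>
      rw [tens_tmul, map_mul, act_kl, act_kr]
      rw [kk, kk, h.comm, h'.comm]
  mul σ τ := by
    show (kl ι κ (g σ : Matrix ι ι K) * kr ι κ (g' σ : Matrix κ κ K)) *
      act σ (kl ι κ (g τ : Matrix ι ι K) * kr ι κ (g' τ : Matrix κ κ K)) = ((a σ τ : K) * (a' σ τ : K)) •
      (kl ι κ (g (σ * τ) : Matrix ι ι K) * kr ι κ (g' (σ * τ) : Matrix κ κ K))
    rw [map_mul, act_kl, act_kr]
    rw [kk, h.mul, h'.mul, map_smul, map_smul, smul_mul_assoc, mul_smul_comm, smul_smul]

/-- The trivial factor set. -/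
theorem isFS_base [SMulCommClass G k K] (c : G → Kˣ) :
    IsFS (Algebra.ofId k (Matrix (Fin 1) (Fin 1) K))
      (fun σ => Units.map (algebraMap K (Matrix (Fin 1) (Fin 1) K) :
        K →* Matrix (Fin 1) (Fin 1) K) (c σ))
      (fun σ τ => c σ * uact σ (c τ) * (c (σ * τ))⁻¹) where
  finrank := by
    rw [Module.finrank_self]
    simp
  comm σ x := by
    have e : (Units.map (algebraMap K (Matrix (Fin 1) (Fin 1) K) :
        K →* Matrix (Fin 1) (Fin 1) K) (c σ) : Matrix (Fin 1) (Fin 1) K) =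
      algebraMap K _ (c σ : K) := rfl
    rw [e, ← actA_apply (k := k), Algebra.ofId_apply, AlgHom.commutes]
    exact Algebra.commutes x _
  mul σ τ := by
    have e : ∀ c : Kˣ, (Units.map (algebraMap K (Matrix (Fin 1) (Fin 1) K) :
        K →* Matrix (Fin 1) (Fin 1) K) c : Matrix (Fin 1) (Fin 1) K) =
      (c : K) • 1 := fun c => Algebra.algebraMap_eq_smul_one _
    rw [e, e, e, act_smul_one, smul_mul_assoc, one_mul, smul_smul, smul_smul]
    congr 1
    simp only [Units.val_mul, uact_coe, Units.val_inv_eq_inv_val]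
    have hne := (c (σ * τ)).ne_zero
    field_simp

/-- Transport along an algebra isomorphism. -/
theorem IsFS.congr {β : A →ₐ[k] Matrix ι ι K} {g : G → (Matrix ι ι K)ˣ} {a : G → G → Kˣ}
    (h : IsFS β g a) (e : B ≃ₐ[k] A) : IsFS (β.comp (e : B →ₐ[k] A)) g a where
  finrank := by rw [e.toLinearEquiv.finrank_eq, h.finrank]
  comm σ x := h.comm σ (e x)
  mul := h.mul

/-- **Tensor powers.** -/
theorem IsFS.tpow [SMulCommClass G k K] {β : A →ₐ[k] Matrix ι ι K} {g : G → (Matrix ι ι K)ˣ}
    {a : G → G → Kˣ} (h : IsFS β g a) (n : ℕ) :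
    ∃ (κ : Type) (_ : Fintype κ) (_ : DecidableEq κ) (β' : CSAGal.tpow k A n →ₐ[k] Matrix κ κ K)
      (g' : G → (Matrix κ κ K)ˣ), IsFS β' g' (fun σ τ => a σ τ ^ n) := by
  induction n with
  | zero =>
    have h2 := (isFS_base (k := k) (K := K) (fun _ : G => (1 : Kˣ))).congr (K441.TPow.tpowZero k A)
    have h3 : (fun σ τ : G => (1 : Kˣ) * uact σ (1 : Kˣ) * (1 : Kˣ)⁻¹) = fun σ τ => a σ τ ^ 0 := by
      funext σ τ
      rw [map_one, mul_one, inv_one, mul_one, pow_zero]
    rw [h3] at h2
    exact ⟨Fin 1, inferInstance, inferInstance, _, _, h2⟩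
  | succ n ih =>
    obtain ⟨κ, i1, i2, β', g', h'⟩ := ih
    have h2 := (h'.tensor h).congr (K441.TPow.tpowSucc k A n).symm
    have h3 : (fun σ τ : G => a σ τ ^ n * a σ τ) = fun σ τ => a σ τ ^ (n + 1) := by
      funext σ τ
      rw [pow_succ]
    rw [h3] at h2
    exact ⟨κ × ι, inferInstance, inferInstance, _, _, h2⟩

end tensor

section splitting

/-- A splitting field gives a representation. -/
theorem exists_rep (h : Curves.Splits k A K) :
    ∃ n : ℕ, n ≠ 0 ∧ Nonempty (A →ₐ[k] Matrix (Fin n) (Fin n) K) ∧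
      finrank k A = Fintype.card (Fin n) * Fintype.card (Fin n) := by
  obtain ⟨n, hn, ⟨e⟩⟩ := h
  refine ⟨n, hn,
    ⟨((e : (K ⊗[k] A) →ₐ[K] _).restrictScalars k).comp Algebra.TensorProduct.includeRight⟩, ?_⟩
  have h1 : finrank K (K ⊗[k] A) = finrank k A := Module.finrank_baseChange
  rw [← h1, e.toLinearEquiv.finrank_eq, Module.finrank_matrix, Module.finrank_self, mul_one]

/-- The rational representation of a split algebra. -/
theorem isFS_split [SMulCommClass G k K] (n : ℕ) (e : A ≃ₐ[k] Matrix (Fin n) (Fin n) k)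
    (hn : Fintype.card ι = n) : ∃ β : A →ₐ[k] Matrix ι ι K,
      IsFS β (fun _ : G => (1 : (Matrix ι ι K)ˣ)) (fun _ _ => 1) := by
  let r : Fin n ≃ ι := (Fintype.equivFinOfCardEq hn).symm
  let β : A →ₐ[k] Matrix ι ι K := (Algebra.ofId k K).mapMatrix.comp
    ((Matrix.reindexAlgEquiv k k r).toAlgHom.comp e.toAlgHom)
  refine ⟨β, ?_, fun σ x => ?_, fun σ τ => ?_⟩
  · rw [e.toLinearEquiv.finrank_eq, Module.finrank_matrix, Module.finrank_self, mul_one, hn,
      Fintype.card_fin]
  · rw [Units.val_one, mul_one, one_mul]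
    ext i j
    exact (smul_algebraMap σ _).symm
  · rw [Units.val_one, map_one, Units.val_one, one_smul, mul_one]

variable {F : Type y} [Field F] [Algebra k F] {M : Type w} [Field M] [Algebra K M] [Algebra k M]
  [Algebra F M] [IsScalarTower k F M] [IsScalarTower k K M] [MulSemiringAction G M]

/-- Extension of a representation. -/
noncomputable def bcRep (F : Type y) [Field F] [Algebra k F] (M : Type w) [Field M] [Algebra K M]
    [Algebra k M] [Algebra F M] [IsScalarTower k F M] [IsScalarTower k K M]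
    (β : A →ₐ[k] Matrix ι ι K) : F ⊗[k] A →ₐ[F] Matrix ι ι M :=
  Algebra.TensorProduct.lift (Algebra.ofId F _)
    ((IsScalarTower.toAlgHom k K M).mapMatrix.comp β) (fun c _ => Algebra.commute_algebraMap_left c _)

theorem bcRep_tmul (β : A →ₐ[k] Matrix ι ι K) (c : F) (x : A) :
    bcRep F M β (c ⊗ₜ x) = c • (algebraMap K M).mapMatrix (β x) := by
  have := Algebra.TensorProduct.lift_tmul (Algebra.ofId F (Matrix ι ι M))
    ((IsScalarTower.toAlgHom k K M).mapMatrix.comp β) (fun c x => Algebra.commute_algebraMap_left c _) c x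
  rw [Algebra.ofId_apply, ← Algebra.smul_def] at this
  exact this

/-- Base change of factor sets. -/
theorem IsFS.bc [SMulCommClass G F M] (hc : ∀ (σ : G) (c : K), σ • algebraMap K M c = algebraMap K M (σ • c))
    {β : A →ₐ[k] Matrix ι ι K} {g : G → (Matrix ι ι K)ˣ} {a : G → G → Kˣ} (h : IsFS β g a) :
    IsFS (bcRep F M β) (fun σ => Units.map
      (((algebraMap K M).mapMatrix : Matrix ι ι K →+* Matrix ι ι M) : Matrix ι ι K →* Matrix ι ι M) (g σ))
      (fun σ τ => Units.map (algebraMap K M : K →* M) (a σ τ)) where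
  finrank := by rw [Module.finrank_baseChange, h.finrank]
  comm σ z := by
    have e1 : ∀ X : Matrix ι ι K, act σ ((algebraMap K M).mapMatrix X) =
        (algebraMap K M).mapMatrix (act σ X) := by
      intro X
      ext i j
      exact hc σ (X i j)
    show bcRep F M β z * (algebraMap K M).mapMatrix (g σ : Matrix ι ι K) =
      (algebraMap K M).mapMatrix (g σ : Matrix ι ι K) * act σ (bcRep F M β z)
    induction z using TensorProduct.induction_on with
    | zero => simp
    | add x y hx hy => rw [map_add, add_mul, hx, hy, map_add, mul_add]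
    | tmul c x =>
      have e2 : act σ (c • (algebraMap K M).mapMatrix (β x)) =
          c • act σ ((algebraMap K M).mapMatrix (β x)) := by
        ext i j
        exact smul_comm σ c _
      rw [bcRep_tmul, e2, e1, smul_mul_assoc, ← map_mul, h.comm, map_mul, mul_smul_comm]
  mul σ τ := by
    have e1 : ∀ X : Matrix ι ι K, act σ ((algebraMap K M).mapMatrix X) =
        (algebraMap K M).mapMatrix (act σ X) := by
      intro X
      ext i j
      exact hc σ (X i j)
    show (algebraMap K M).mapMatrix (g σ : Matrix ι ι K) *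
      act σ ((algebraMap K M).mapMatrix (g τ : Matrix ι ι K)) =
      algebraMap K M (a σ τ : K) • (algebraMap K M).mapMatrix (g (σ * τ) : Matrix ι ι K)
    rw [e1, ← map_mul, h.mul]
    ext i j
    show algebraMap K M ((a σ τ : K) * _) = _
    rw [map_mul]
    rfl

/-- If the factor set becomes a coboundary in `M`, the algebra is split by `F = M^G`. -/
theorem splits_of_cobound [Finite G] [hG : IsGaloisGroup G F M]
    (hc : ∀ (σ : G) (c : K), σ • algebraMap K M c = algebraMap K M (σ • c)) (hA : IsCSA k A)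
    {β : A →ₐ[k] Matrix ι ι K} {g : G → (Matrix ι ι K)ˣ} {a : G → G → Kˣ} (h : IsFS β g a)
    (c : G → Mˣ) (hac : ∀ σ τ, Units.map (algebraMap K M : K →* M) (a σ τ) =
      c σ * uact σ (c τ) * (c (σ * τ))⁻¹) : Curves.Splits k A F := by
  have := hG.commutes
  have h1 := h.bc (F := F) (M := M) hc
  have h2 := isFS_base (k := F) (K := M) c
  have h3 : (fun σ τ => Units.map (algebraMap K M : K →* M) (a σ τ)) =
      fun σ τ => c σ * uact σ (c τ) * (c (σ * τ))⁻¹ := by
    funext σ τ
    exact hac σ τ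
  rw [h3] at h1
  exact (splits_iff_brEq_bc hA F).mpr (h1.brEq (hA.baseChange F) (IsCSA.self F) h2)

/-- If the algebra is split by `F`, the factor set is a coboundary in `M`. -/
theorem cobound_of_splits [SMulCommClass G F M]
    (hc : ∀ (σ : G) (c : K), σ • algebraMap K M c = algebraMap K M (σ • c)) (hA : IsCSA k A)
    {β : A →ₐ[k] Matrix ι ι K} {g : G → (Matrix ι ι K)ˣ} {a : G → G → Kˣ} (h : IsFS β g a)
    (hs : Curves.Splits k A F) : ∃ c : G → Mˣ, ∀ σ τ, Units.map (algebraMap K M : K →* M) (a σ τ) =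
      c σ * uact σ (c τ) * (c (σ * τ))⁻¹ := by
  have h1 := h.bc (F := F) (M := M) hc
  obtain ⟨n, hn, ⟨e⟩⟩ := hs
  have hcard : Fintype.card ι = n := by
    have h2 := h1.finrank
    rw [e.toLinearEquiv.finrank_eq, Module.finrank_matrix, Module.finrank_self, mul_one,
      Fintype.card_fin] at h2
    exact (Nat.mul_self_inj.mp h2).symm
  obtain ⟨β', h2⟩ := isFS_split (G := G) (K := M) n e hcard
  obtain ⟨c, hc⟩ := h2.cohom (hA.baseChange F) h1
  exact ⟨c, fun σ τ => by rw [hc, mul_one]⟩

end splitting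

end K441.FacSet
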